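import Cfsg.Agent.H43.Eleven.Local
import Cfsg.Agent.SporadicStructure.M24El
import Cfsg.Agent.SporadicA.MathieuRecog
import Cfsg.Agent.SporadicA.M11Comp
import Cfsg.Agent.MTwelveType.SylowModel
import Cfsg.Agent.S0387
import Cfsg.Agent.S0388
import Cfsg.Agent.S0364

/-!
# S3403, part A: the Mathieu groups
-/

set_option autoImplicit false
set_option linter.style.haveILetI false

open scoped Pointwise

namespace Cfsg.Agent.H807.El

open Cfsg Cfsg.Agent.H43.Eleven Subgroup
open Cfsg.Agent.SporadicA.GolayBase Cfsg.Agent.SporadicA.GolayPerm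
open Cfsg.Agent.SporadicStructure.M24El

universe u v

/-! ### General -/

/-- an element with a cycle of length not dividing 43890 -/
theorem not_dvd_of_pow {G : Type u} [Group G] {w : G} {k d : ℕ} (hkd : Nat.gcd k 43890 = d) (hk : w ^ k = 1)
    (h : w ^ d ≠ 1) : ¬ orderOf w ∣ 43890 := by
  intro hd
  apply h
  rw [← orderOf_dvd_iff_pow_eq_one, ← hkd]
  exact Nat.dvd_gcd (orderOf_dvd_of_pow_eq_one hk) hd

theorem Cfg.false_of_pair_pow {G : Type u} [Group G] [Finite G] {P : Subgroup G} (h : Cfg P)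
    (h2 : ¬ 11 ^ 2 ∣ Nat.card G) {a b : G} {k d : ℕ} (hkd : Nat.gcd k 43890 = d) (ha : a ^ 11 = 1) (ha1 : a ≠ 1)
    (hb : b ^ 11 = 1) (hb1 : b ≠ 1) (hk : (a * b) ^ k = 1) (hk' : (a * b) ^ d ≠ 1) : False := by
  have : Fact (Nat.Prime 11) := ⟨by norm_num⟩
  exact h.false_of_pair h2 (orderOf_eq_prime ha ha1) (orderOf_eq_prime hb hb1)
    (mul_mem (subset_closure (by simp)) (subset_closure (by simp))) (not_dvd_of_pow hkd hk hk')

/-! ### Powers of packed permutations -/

/-- power of a packed permutation -/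
def ppow (P : ℕ) (n : ℕ) : ℕ := Nat.rec idP (fun _ Q => pcomp P Q) n

theorem ppow_spec {P : ℕ} (h : ok P = true) (n : ℕ) : ok (ppow P n) = true ∧ el (ppow P n) = el P ^ n := by
  induction n with
  | zero => exact ⟨ok_idP, by rw [pow_zero]; exact el_idP⟩
  | succ n ih =>
    have e : ppow P (n + 1) = pcomp P (ppow P n) := rfl
    rw [e]
    exact ⟨ok_pcomp h ih.1, by rw [el_pcomp h ih.1, ih.2, pow_succ']⟩

theorem el_pow_eq_one {P : ℕ} (h : ok P = true) {n : ℕ} (hn : ppow P n = idP) : el P ^ n = 1 := by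
  rw [← (ppow_spec h n).2, hn, el_idP]

theorem el_pow_ne_one {P : ℕ} (h : ok P = true) {n i : ℕ} (hi : pt (papp (ppow P n) (idx (pt i))) ≠ pt i) :
    el P ^ n ≠ 1 := by
  intro h1
  apply hi
  rw [← el_smul_pt (ppow_spec h n).1, (ppow_spec h n).2, h1, one_smul]

/-! ### The orders -/

theorem squareDodecad_mem : Spor.squareDodecad ∈ dodecads := Cfsg.Agent.SporadicA.M11Comp.sqD_mem_dodecads

theorem zero_mem : (some 0 : GolayPt) ∈ Spor.squareDodecad := by decide +kernel

/-- the two descriptions of `M₁₁` -/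
def equivM11 : ↥(MulAction.stabilizer Cfsg.M24 Cfsg.Spor.squareDodecad ⊓
    MulAction.stabilizer Cfsg.M24 (some 0 : GolayPt)) ≃* Cfsg.Spor.M11 where
  toFun g := ⟨((g : Cfsg.M24) : Equiv.Perm GolayPt), ⟨(g : Cfsg.M24).2, g.2.1⟩, g.2.2⟩
  invFun g := ⟨⟨(g : Equiv.Perm GolayPt), g.2.1.1⟩, g.2.1.2, g.2.2⟩
  left_inv _ := rfl
  right_inv _ := rfl
  map_mul' _ _ := rfl

theorem card_M11 : Nat.card Spor.M11 = 7920 := by
  rw [← Nat.card_congr equivM11.toEquiv]
  exact Cfsg.Agent.S0387.result _ squareDodecad_mem _ zero_mem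

theorem simple_M11 : IsSimpleGroup Spor.M11 := by
  have := Cfsg.Agent.S0388.result _ squareDodecad_mem _ zero_mem
  exact MulEquiv.isSimpleGroup equivM11.symm

theorem card_M12 : Nat.card Spor.M12 = 95040 := Cfsg.Agent.MTwelveType.SylowModel.card_M12

theorem card_M22 : Nat.card Spor.M22 = 443520 := Cfsg.Agent.SporadicA.MathieuRecog.card_M22

theorem card_M23 : Nat.card Spor.M23 = 10200960 := Cfsg.Agent.SporadicA.MathieuRecog.card_M23

theorem card_M24 : Nat.card M24 = 244823040 := Cfsg.Agent.S0364.result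

theorem finite_of_card {G : Type u} {n : ℕ} (h : Nat.card G = n) (hn : n ≠ 0) : Finite G :=
  Nat.finite_of_card_ne_zero (by rw [h]; exact hn)

instance : Finite Spor.M11 := finite_of_card card_M11 (by norm_num)
instance : Finite Spor.M12 := finite_of_card card_M12 (by norm_num)
instance : Finite Spor.M22 := finite_of_card card_M22 (by norm_num)
instance : Finite Spor.M23 := finite_of_card card_M23 (by norm_num)
instance : Finite M24 := finite_of_card card_M24 (by norm_num)

/-! ### `M₁₁` -/

/-- an element of order 11 -/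
def A11 : ℕ := 320126546235481876715629218993094848
/-- an element of order 11 -/
def B11 : ℕ := 812116960672977841642993412186059872

theorem ok_A11 : ok A11 = true := by decide +kernel
theorem ok_B11 : ok B11 = true := by decide +kernel

theorem squareDodecad_eq : Spor.squareDodecad = fin 340831 := by
  ext x
  revert x
  decide +kernel

theorem mem_M11 {P : ℕ} (hP : ok P = true) (h1 : pimg P 340831 = 340831) (h2 : pt (papp P (idx (some 0))) = some 0) :
    (el P : Equiv.Perm GolayPt) ∈ Spor.M11 := by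
  refine ⟨⟨(el P).2, ?_⟩, ?_⟩
  · show (el P : Equiv.Perm GolayPt) • Spor.squareDodecad = Spor.squareDodecad
    rw [← coe_smul_finset, squareDodecad_eq, el_smul_fin hP]
    exact congrArg fin h1
  · show (el P : Equiv.Perm GolayPt) (some 0) = some 0
    have h := el_smul_pt hP (some 0)
    rw [h2] at h
    exact h

theorem A11_mem : (el A11 : Equiv.Perm GolayPt) ∈ Spor.M11 := mem_M11 ok_A11 (by decide +kernel) (by decide +kernel)
theorem B11_mem : (el B11 : Equiv.Perm GolayPt) ∈ Spor.M11 := mem_M11 ok_B11 (by decide +kernel) (by decide +kernel)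

/-- two packed elements in a subgroup of `M24` (as permutations of the points) -/
theorem false_of_packed {K : Subgroup (Equiv.Perm GolayPt)} [Finite K] {P : Subgroup K} (h : Cfg P)
    (h2 : ¬ 11 ^ 2 ∣ Nat.card K) {A B : ℕ} {k d i : ℕ} (hkd : Nat.gcd k 43890 = d) (hA : ok A = true) (hB : ok B = true)
    (hAK : (el A : Equiv.Perm GolayPt) ∈ K) (hBK : (el B : Equiv.Perm GolayPt) ∈ K)
    (ha : ppow A 11 = idP) (ha1 : pt (papp (ppow A 1) (idx (pt i))) ≠ pt i)
    (hb : ppow B 11 = idP) (hb1 : pt (papp (ppow B 1) (idx (pt i))) ≠ pt i)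
    (hk : ppow (pcomp A B) k = idP)
    (hk' : pt (papp (ppow (pcomp A B) d) (idx (pt i))) ≠ pt i) : False := by
  have e : el A * el B = el (pcomp A B) := (el_pcomp hA hB).symm
  have hAB := ok_pcomp hA hB
  have hcoe : ∀ {X : M24} {n : ℕ}, X ^ n = 1 → (X : Equiv.Perm GolayPt) ^ n = 1 := by
    intro X n hX
    rw [← Subgroup.coe_pow, hX, Subgroup.coe_one]
  have hcoe' : ∀ {X : M24} {n : ℕ}, (X : Equiv.Perm GolayPt) ^ n = 1 → X ^ n = 1 := by
    intro X n hX
    exact Subtype.ext (by rw [Subgroup.coe_pow, hX, Subgroup.coe_one])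
  have e' : (el A : Equiv.Perm GolayPt) * (el B : Equiv.Perm GolayPt) = (el (pcomp A B) : M24) :=
    congrArg Subtype.val e
  have hABK : ((el (pcomp A B) : M24) : Equiv.Perm GolayPt) ∈ K := by
    have h4 := mul_mem hAK hBK
    rwa [e'] at h4
  have hAm : (⟨(el A : Equiv.Perm GolayPt), hAK⟩ : K) * ⟨(el B : Equiv.Perm GolayPt), hBK⟩ =
    ⟨((el (pcomp A B) : M24) : Equiv.Perm GolayPt), hABK⟩ := Subtype.ext e'
  have h3 := @Cfg.false_of_pair_pow K _ _ P h h2 ⟨(el A : Equiv.Perm GolayPt), hAK⟩
    ⟨(el B : Equiv.Perm GolayPt), hBK⟩ k d hkd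
  apply h3
  · exact Subtype.ext (hcoe (el_pow_eq_one hA ha))
  · intro hc
    apply el_pow_ne_one hA ha1
    rw [pow_one]
    have hc' := congrArg Subtype.val hc
    exact Subtype.ext hc'
  · exact Subtype.ext (hcoe (el_pow_eq_one hB hb))
  · intro hc
    apply el_pow_ne_one hB hb1
    rw [pow_one]
    have hc' := congrArg Subtype.val hc
    exact Subtype.ext hc'
  · rw [hAm]
    exact Subtype.ext (hcoe (el_pow_eq_one hAB hk))
  · rw [hAm]
    intro hc
    apply el_pow_ne_one hAB hk'
    exact hcoe' (congrArg Subtype.val hc)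

theorem row_M11' : Row Spor.M11 := by
  intro _ P hP _
  exfalso
  exact false_of_packed hP (by rw [card_M11]; norm_num) (k := 8) (d := 2) (i := 1) (by norm_num) ok_A11 ok_B11 A11_mem B11_mem
    (by decide +kernel) (by decide +kernel) (by decide +kernel) (by decide +kernel) (by decide +kernel)
    (by decide +kernel)

theorem row_M11 {X : Type u} [Group X] (h : Spor.IsoM11 X) : Row X := by
  obtain ⟨e⟩ := h
  exact row_congr e row_M11'

/-! ### `M₂₂` -/

/-- an element of order 11 -/
def A22 : ℕ := 972841066373119313865047832363847808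
/-- an element of order 11 -/
def B22 : ℕ := 981999587336003260504961148084664640

theorem ok_A22 : ok A22 = true := by decide +kernel
theorem ok_B22 : ok B22 = true := by decide +kernel

theorem mem_M22 {P : ℕ} (hP : ok P = true) (h1 : pt (papp P (idx none)) = none)
    (h2 : pt (papp P (idx (some 0))) = some 0) : (el P : Equiv.Perm GolayPt) ∈ Spor.M22 := by
  refine ⟨⟨(el P).2, ?_⟩, ?_⟩
  · show (el P : Equiv.Perm GolayPt) none = none
    have h := el_smul_pt hP none
    rw [h1] at h
    exact h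
  · show (el P : Equiv.Perm GolayPt) (some 0) = some 0
    have h := el_smul_pt hP (some 0)
    rw [h2] at h
    exact h

theorem A22_mem : (el A22 : Equiv.Perm GolayPt) ∈ Spor.M22 := mem_M22 ok_A22 (by decide +kernel) (by decide +kernel)
theorem B22_mem : (el B22 : Equiv.Perm GolayPt) ∈ Spor.M22 := mem_M22 ok_B22 (by decide +kernel) (by decide +kernel)

theorem row_M22' : Row Spor.M22 := by
  intro _ P hP _
  exfalso
  exact false_of_packed hP (by rw [card_M22]; norm_num) (k := 8) (d := 2) (i := 1) (by norm_num) ok_A22 ok_B22 A22_mem B22_mem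
    (by decide +kernel) (by decide +kernel) (by decide +kernel) (by decide +kernel) (by decide +kernel)
    (by decide +kernel)

theorem row_M22 {X : Type u} [Group X] (h : Spor.IsoM22 X) : Row X := by
  obtain ⟨e⟩ := h
  exact row_congr e row_M22'

/-! ### `M₁₂`, `M₂₃`, `M₂₄` -/

theorem ncomm_of_card {H : Type u} [Group H] [IsSimpleGroup H] {n : ℕ} (h : Nat.card H = n) (hn : n ≠ 0)
    (hp : ¬ n.Prime) : ∃ a b : H, a * b ≠ b * a := by
  by_contra hc
  push Not at hc
  have hf : Finite H := finite_of_card h hn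
  letI : CommGroup H := { (inferInstance : Group H) with mul_comm := hc }
  have := IsSimpleGroup.prime_card (α := H)
  rw [h] at this
  exact hp this

instance : IsSimpleGroup Spor.M11 := simple_M11
instance : IsSimpleGroup Spor.M22 := Cfsg.Agent.SporadicA.MathieuRecog.simple_M22

theorem ncomm_M11 : ∃ a b : Spor.M11, a * b ≠ b * a := ncomm_of_card card_M11 (by norm_num) (by norm_num)
theorem ncomm_M22 : ∃ a b : Spor.M22, a * b ≠ b * a := ncomm_of_card card_M22 (by norm_num) (by norm_num)

/-- groups which contain `M₁₁` -/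
theorem row_of_M11 {X : Type u} [Group X] [Finite X] (h2 : ¬ 11 ^ 2 ∣ Nat.card X) (hX : Nat.card X ≠ 7920)
    (f : Spor.M11 →* X) (hf : Function.Injective f) : Row X := by
  intro _ P hP hl
  exfalso
  exact hP.false_of_simple hl h2 f hf ncomm_M11 (by rw [card_M11]; norm_num) (by rw [card_M11]; exact hX.symm)
    (by rw [card_M11]; norm_num)

/-- groups which contain `M₂₂` -/
theorem row_of_M22 {X : Type u} [Group X] [Finite X] (h2 : ¬ 11 ^ 2 ∣ Nat.card X) (hX : Nat.card X ≠ 443520)
    (f : Spor.M22 →* X) (hf : Function.Injective f) : Row X := by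
  intro _ P hP hl
  exfalso
  exact hP.false_of_simple hl h2 f hf ncomm_M22 (by rw [card_M22]; norm_num) (by rw [card_M22]; exact hX.symm)
    (by rw [card_M22]; norm_num)

theorem row_M12 {X : Type u} [Group X] (h : Spor.IsoM12 X) : Row X := by
  obtain ⟨e⟩ := h
  refine row_congr e (row_of_M11 (by rw [card_M12]; norm_num) (by rw [card_M12]; norm_num)
    (Subgroup.inclusion (inf_le_left : Spor.M11 ≤ Spor.M12)) (Subgroup.inclusion_injective _))

theorem row_M23 {X : Type u} [Group X] (h : Spor.IsoM23 X) : Row X := by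
  obtain ⟨e⟩ := h
  refine row_congr e (row_of_M22 (by rw [card_M23]; norm_num) (by rw [card_M23]; norm_num)
    (Subgroup.inclusion (inf_le_left : Spor.M22 ≤ Spor.M23)) (Subgroup.inclusion_injective _))

theorem row_M24 {X : Type u} [Group X] (h : Spor.IsoM24 X) : Row X := by
  obtain ⟨e⟩ := h
  refine row_congr e (row_of_M22 (by rw [card_M24]; norm_num) (by rw [card_M24]; norm_num)
    (Subgroup.inclusion (inf_le_left.trans inf_le_left : Spor.M22 ≤ M24)) (Subgroup.inclusion_injective _))

end Cfsg.Agent.H807.El
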